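import Groth.Agent.CurvSt.K744.DensRows
import Groth.Agent.CurvSt.K896.MbarFinal

/-!
# The smooth curves are dense in the stack of stable curves (unconditional)
-/

set_option autoImplicit false
set_option backward.isDefEq.respectTransparency false
set_option backward.isDefEq.respectTransparency.types false

universe u

open CategoryTheory CategoryTheory.Limits AlgebraicGeometry Opposite CurvSt

namespace K744.DensFinal

variable (S : Scheme.{u}) {g n : ℕ}

/-- **The smooth pointed curves are dense in the stack of stable pointed curves**, over any base scheme; `Q` is any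
property of stable pointed curves implied by smoothness. -/
theorem dense_smooth (hg : 3 ≤ 2 * g + n) (Q : (Mbar S g n).obj → Prop)
    (hQ : ∀ A : (Mbar S g n).obj, Smooth A.obj.f → Q A) :
    Dense (Set.range (AlgSt.Points.map (AlgSt.subIncl (Mbar S g n) Q))) :=
  K744.Dens.dense_of_isAlgStack (K316.MbarAlg.isAlgStack_mbar S hg) (K896.MbarFinal.locQ_lfp_mbar S hg) Q hQ

/-- The smooth pointed curves are dense in the stack of stable pointed curves. -/
theorem dense_sm (hg : 3 ≤ 2 * g + n) :
    Dense (Set.range (AlgSt.Points.map (AlgSt.subIncl (Mbar S g n) (K508.SmLocus.Sm S g n)))) :=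
  dense_smooth S hg _ fun A h => (K508.SmLocus.isSmoothPtdFam_iff A.property).2 h

end K744.DensFinal
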