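import Groth.Agent.CurvSt.K744.DensMain
import Groth.Agent.CurvSt.K693.DensMain

/-!
# First order smoothings of stable curves exist

`FirstOrder K` for every algebraically closed field `K`, from `K693.Dens.exists_smoothing`.
-/

set_option autoImplicit false
set_option backward.isDefEq.respectTransparency false
set_option backward.isDefEq.respectTransparency.types false

universe u

open CategoryTheory CategoryTheory.Limits AlgebraicGeometry Opposite IsLocalRing CurvSt

namespace K744.Dens

theorem ker_fst_sq (K : Type u) [Field K] :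
    (RingHom.ker (TrivSqZeroExt.fstHom K K K).toRingHom) ^ 2 = (⊥ : Ideal (DualNumber K)) := by
  rw [eq_bot_iff, pow_two, Ideal.mul_le]
  intro a ha b hb
  have ha' : TrivSqZeroExt.fst a = 0 := ha
  have hb' : TrivSqZeroExt.fst b = 0 := hb
  rw [Ideal.mem_bot]
  apply TrivSqZeroExt.ext
  · rw [TrivSqZeroExt.fst_mul, ha', zero_mul, TrivSqZeroExt.fst_zero]
  · rw [TrivSqZeroExt.snd_mul, ha', hb', zero_smul, MulOpposite.op_zero, zero_smul, add_zero, TrivSqZeroExt.snd_zero]

/-- First order smoothings exist. -/
theorem firstOrder (K : Type u) [Field K] [IsAlgClosed K] : FirstOrder K := by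
  refine ⟨DualNumber K, inferInstance, inferInstance, inferInstance, TrivSqZeroExt.fstHom K K K, ker_fst_sq K, ?_⟩
  intro g n C q x hx h
  obtain ⟨X, f, τ, hτ, j, sq, hst, hm, hs⟩ := K693.Dens.exists_smoothing q x hx h
  exact ⟨X, f, τ, hτ, j, hst, sq, hm, hs⟩

end K744.Dens
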