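import Groth.Agent.Synt.K563.NodLim
import Groth.Agent.Synt.K563.NodFwd
import Groth.Agent.SDiv.K474.FittOmega2
import Groth.Agent.Flat2B.SmoothGeom
import Groth.Agent.VarietyA.SmoothLocusSch
import Groth.Agent.CurvSt.K902.LiftGlue
import Groth.Agent.CurvSt.K901.LociSub
import Groth.Agent.AlgSp.K619.Singleton
import Groth.Agent.CurvSt.K896.StPts

/-!
# Singular nodal families over a smooth base have many tangent vectors along the singular locus
-/

set_option autoImplicit false

universe u

open CategoryTheory CategoryTheory.Limits AlgebraicGeometry IsLocalRing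

namespace K744.Dens

open K901.Loci K563.NodLim

/-- An unramified morphism is smooth at the points over which the local ring of the base is a field. -/
theorem mem_smoothLocus_of_unramified {D W : Scheme.{u}} (g : D ⟶ W) [FormallyUnramified g]
    [LocallyOfFinitePresentation g] (y : D) (h : IsField (W.presheaf.stalk (g y))) : y ∈ g.smoothLocus := by
  rw [Scheme.Hom.mem_smoothLocus]
  have h1 := LocallyOfFiniteType.stalkMap g y
  have h2 := FormallyUnramified.stalkMap (f := g) y
  let _ : Field (W.presheaf.stalk (g y)) := h.toField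
  algebraize [(g.stalkMap y).hom]
  have h3 : Algebra.FormallyEtale (W.presheaf.stalk (g y)) (D.presheaf.stalk y) :=
    Algebra.FormallyEtale.of_formallyUnramified_of_field _ _
  exact (inferInstance : Algebra.FormallySmooth (W.presheaf.stalk (g y)) (D.presheaf.stalk y))

/-- Points of the singular subscheme of a nodal family are the points where the family is not smooth. -/
theorem mem_support_iff {W C : Scheme.{u}} (f : C ⟶ W) (hf : Curv2.IsNodalFamily f) [QuasiSeparated f] (x : C) :
    x ∈ (Fitt.sheafIdeal (Omega.sheaf f) 1).support ↔ ¬ SmoothAt f x := by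
  have h1 : Flat f := hf.1
  have h2 : LocallyOfFinitePresentation f := hf.2.1
  have h3 : FlatMor.localDim (f.fiber (f x)) (f.asFiber x) = ((1 : ℕ) : WithBot ℕ∞) := by
    have h := K563.NodFwd.localFibreDim_of_isNodalFamily f hf x
    rw [Groth.Agent.Dual.H318.PureDim.localFibreDim_eq_fibreDimAt] at h
    exact h
  have h4 := Groth.Agent.SDiv.K474.FittOmega2.not_mem_support_iff_smooth f 1 x h3
  rw [← not_iff_not, not_not]
  exact h4

/-- **Tangent vectors along the singular locus.** If all members of a nodal family over a smooth scheme over an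
algebraically closed field are singular, there is a rational point at which the family is not smooth through which all
infinitesimal deformations of its image lift. -/
theorem exists_pt {K : Type u} [Field K] [IsAlgClosed K] {W C : Scheme.{u}} (p : W ⟶ Spec (CommRingCat.of K))
    [Smooth p] [Nonempty W] (f : C ⟶ W) (hf : Curv2.IsNodalFamily f) [QuasiSeparated f]
    (hs : ∀ w : W, ∃ x : C, f x = w ∧ ¬ SmoothAt f x) :
    ∃ d : Spec (CommRingCat.of K) ⟶ C, d ≫ f ≫ p = 𝟙 _ ∧ ¬ SmoothAt f (d (closedPoint K)) ∧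
      ∀ {T₀ T : Scheme.{u}} [IsAffine T] (t : T₀ ⟶ T) (_ : MoreMor.IsFirstOrderThickening t)
        (a : T₀ ⟶ Spec (CommRingCat.of K)) (b : T ⟶ W), t ≫ b = a ≫ d ≫ f →
        ∃ l : T ⟶ C, t ≫ l = a ≫ d ∧ l ≫ f = b := by
  have hfl : LocallyOfFinitePresentation f := hf.2.1
  have hlN : IsLocallyNoetherian W := LocallyOfFiniteType.isLocallyNoetherian p
  have hred : IsReduced W := Groth.Agent.Flat2B.SmoothGeom.isReduced_of_smooth p
  obtain ⟨η, hη⟩ := K619.Singleton.exists_isField_stalk W
  obtain ⟨x, rfl, hx⟩ := hs η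
  have hsing : FormallyUnramified (sing f) := ((pNod_iff f).2 hf).2.2.2
  have hι : LocallyOfFiniteType (sing f) := inferInstance
  have hlfp : LocallyOfFinitePresentation (sing f) := LocallyOfFinitePresentation.iff_locallyOfFiniteType.mpr hι
  let J := Fitt.sheafIdeal (Omega.sheaf f) 1
  have hx' : x ∈ Set.range J.subschemeι := by
    rw [J.range_subschemeι]
    exact (mem_support_iff f hf x).2 hx
  obtain ⟨y, rfl⟩ := hx'
  have hy : y ∈ (sing f).smoothLocus := mem_smoothLocus_of_unramified (sing f) y (by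
    have : (sing f) y = f (J.subschemeι y) := Scheme.Hom.comp_apply _ _ _
    rw [this]
    exact hη)
  let D := (sing f).smoothLocus
  have hD : Smooth (D.ι ≫ sing f) := Groth.Agent.VarietyA.SmoothLocusSch.smooth_smoothLocus_ι (sing f)
  have hJ : JacobsonSpace D := LocallyOfFiniteType.jacobsonSpace ((D.ι ≫ sing f) ≫ p)
  obtain ⟨z, -, hz⟩ := nonempty_inter_closedPoints (Z := (Set.univ : Set D)) ⟨⟨y, hy⟩, trivial⟩
    isOpen_univ.isLocallyClosed
  let σ := ((pointEquivClosedPoint ((D.ι ≫ sing f) ≫ p)).symm ⟨z, hz⟩).1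
  have hσ : σ ≫ (D.ι ≫ sing f) ≫ p = 𝟙 _ := ((pointEquivClosedPoint ((D.ι ≫ sing f) ≫ p)).symm ⟨z, hz⟩).2
  refine ⟨σ ≫ D.ι ≫ J.subschemeι, ?_, ?_, ?_⟩
  · simpa [sing] using hσ
  · rw [← mem_support_iff f hf, ← SetLike.mem_coe, ← J.range_subschemeι]
    refine ⟨(σ ≫ D.ι) (closedPoint K), ?_⟩
    exact (Scheme.Hom.comp_apply (σ ≫ D.ι) J.subschemeι (closedPoint K)).symm
  · intro T₀ T _ t ht a b hb
    obtain ⟨l, hl1, hl2⟩ := K902.LiftGlue.exists_lift_smooth (D.ι ≫ sing f) t ht (a ≫ σ) b (by
      rw [hb]
      simp [sing, J])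
    refine ⟨l ≫ D.ι ≫ J.subschemeι, ?_, ?_⟩
    · rw [← Category.assoc, hl1]
      simp
    · rw [← hl2]
      simp [sing, J]

end K744.Dens
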