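import Groth.Agent.CurvSt.K902.ChartLift
import Groth.Agent.AlgSt.K744.ArtD.Assemble

/-!
# Infinitesimal lifting for smooth charts given by objects
-/

set_option autoImplicit false
set_option backward.isDefEq.respectTransparency false
set_option backward.isDefEq.respectTransparency.types false

universe v₂ u₂ u

open CategoryTheory CategoryTheory.Limits AlgebraicGeometry Opposite K735.Fib K735.Fp K735.Rep K744.ArtD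

namespace K744.Dens

variable {S : Scheme.{u}} {𝒳 : BasedCategory.{v₂, u₂} (Over S)}

/-- A 2-isomorphism of charts given by objects comes from an arrow of the objects. -/
theorem exists_hom_of_iso (h𝒳 : FibCat.IsFibGrpd 𝒳.p) (A B : 𝒳.obj) (g : 𝒳.p.obj A ⟶ 𝒳.p.obj B)
    (i : BasedFunctor.comp (AlgSt.overMap g) (yonF h𝒳 B rfl) ≅ yonF h𝒳 A rfl) :
    ∃ θ : A ⟶ B, 𝒳.p.map θ = g := by
  let T := 𝒳.p.obj A
  let U := 𝒳.p.obj B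
  let a : (yonF h𝒳 A rfl).obj (idObj T) ⟶ (BasedFunctor.comp (AlgSt.overMap g) (yonF h𝒳 B rfl)).obj (idObj T) :=
    (isoApp i (idObj T)).inv
  have ha : Vert 𝒳.p a := (vert_isoApp i (idObj T)).iso_inv
  let b : (BasedFunctor.comp (AlgSt.overMap g) (yonF h𝒳 B rfl)).obj (idObj T) ⟶ (yonF h𝒳 B rfl).obj (idObj U) :=
    toOb (yonF h𝒳 B rfl) (𝟙 T ≫ g)
  have hb : 𝒳.p.IsHomLift (𝟙 T ≫ g) b := toOb_isHomLift (yonF h𝒳 B rfl) (𝟙 T ≫ g)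
  have hv1 : Vert 𝒳.p (yonFIso h𝒳 A rfl).inv := (vert_yonFIso h𝒳 A rfl).iso_inv
  have hv2 := vert_yonFIso h𝒳 B rfl
  refine ⟨(yonFIso h𝒳 A rfl).inv ≫ a ≫ b ≫ (yonFIso h𝒳 B rfl).hom, ?_⟩
  have h1 := IsHomLift.fac' 𝒳.p (𝟙 T ≫ g) b
  rw [Functor.map_comp, Functor.map_comp, Functor.map_comp, hv1.map_eq, ha.map_eq, hv2.map_eq, h1]
  simp

/-- **Infinitesimal lifting** for the smooth chart given by an object `B`. -/
theorem exists_hom_of_smooth (h𝒳 : FibCat.IsFibGrpd 𝒳.p) (B : 𝒳.obj)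
    (hx : AlgSt.RepByAlgSpWith (AlgSp.LocP @Smooth) (yonF h𝒳 B rfl)) {A₀ A' : 𝒳.obj} (φ : A₀ ⟶ B) (ψ : A₀ ⟶ A')
    [IsAffine (𝒳.p.obj A').left] (hj : MoreMor.IsFirstOrderThickening (𝒳.p.map ψ).left) :
    ∃ θ : A' ⟶ B, 𝒳.p.map ψ ≫ 𝒳.p.map θ = 𝒳.p.map φ := by
  obtain ⟨i1⟩ := nonempty_iso_yonF_hom h𝒳 (x := A₀) (y := B) rfl rfl (𝒳.p.map φ) φ (IsHomLift.map 𝒳.p φ)
  obtain ⟨i2⟩ := nonempty_iso_yonF_hom h𝒳 (x := A₀) (y := A') rfl rfl (𝒳.p.map ψ) ψ (IsHomLift.map 𝒳.p ψ)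
  obtain ⟨g, hg, ⟨k⟩⟩ := K902.ChartLift.exists_lift_chart (yonF h𝒳 B rfl) hx (𝒳.p.map ψ) hj (𝒳.p.map φ)
    (yonF h𝒳 A' rfl) (i1.symm ≪≫ i2)
  obtain ⟨θ, hθ⟩ := exists_hom_of_iso h𝒳 A' B g k
  exact ⟨θ, by rw [hθ, hg]⟩

end K744.Dens
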