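import Groth.Agent.CurvSt.K744.DensGeo
import Groth.Agent.CurvSt.K744.DensLift
import Groth.Agent.CurvSt.K896.MbarFam

/-!
# The smooth stable curves are dense: the geometric core
-/

set_option autoImplicit false
set_option backward.isDefEq.respectTransparency false
set_option backward.isDefEq.respectTransparency.types false

universe u

open CategoryTheory CategoryTheory.Limits AlgebraicGeometry Opposite IsLocalRing CurvSt

namespace K744.Dens

open K901.Loci K896.MbarFam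

/-- First order smoothings of stable curves over `K`: over a local first order thickening `R₁` of `K`, every stable
pointed curve deforms to a family such that no section of it passes through a non-smooth point. -/
def FirstOrder (K : Type u) [Field K] : Prop :=
  ∃ (R₁ : Type u) (_ : CommRing R₁) (_ : IsLocalRing R₁) (_ : Algebra K R₁) (res : R₁ →ₐ[K] K),
    (RingHom.ker res.toRingHom) ^ 2 = ⊥ ∧
    ∀ (g n : ℕ) {C : Scheme.{u}} (q : C ⟶ Spec (CommRingCat.of K)) (x : Fin n → (Spec (CommRingCat.of K) ⟶ C))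
      (hx : ∀ j, x j ≫ q = 𝟙 _), IsStableFam q x hx g →
      ∃ (C₁ : Scheme.{u}) (q₁ : C₁ ⟶ Spec (CommRingCat.of R₁)) (x₁ : Fin n → (Spec (CommRingCat.of R₁) ⟶ C₁))
        (hx₁ : ∀ j, x₁ j ≫ q₁ = 𝟙 _) (i : C ⟶ C₁),
        IsStableFam q₁ x₁ hx₁ g ∧ IsPullback i q q₁ (Spec.map (CommRingCat.ofHom res.toRingHom)) ∧
        (∀ j, x j ≫ i = Spec.map (CommRingCat.ofHom res.toRingHom) ≫ x₁ j) ∧
        ∀ s : Spec (CommRingCat.of R₁) ⟶ C₁, s ≫ q₁ = 𝟙 _ → SmoothAt q₁ (s (closedPoint R₁))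

/-- A square-zero surjection of rings gives a first order thickening. -/
theorem isFirstOrderThickening_map {R A : CommRingCat.{u}} (φ : R ⟶ A) (hs : Function.Surjective φ.hom)
    (h : RingHom.ker φ.hom ^ 2 = ⊥) : MoreMor.IsFirstOrderThickening (Spec.map φ) := by
  refine ⟨⟨IsClosedImmersion.spec_of_surjective _ hs, ?_⟩, ?_⟩
  · exact Groth.Agent.UnramB.FirstOrderNbhd.surjective_SpecMap_of_ker_sq _ hs h
  · rw [← pow_two]
    exact Groth.Agent.UnramB.FirstOrderNbhd.ker_sq_SpecMap _ h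

variable {S : Scheme.{u}} {n g : ℕ}

/-- **Core of the density theorem.** -/
theorem exists_smooth_point (H : ∀ (K : Type u) [Field K] [IsAlgClosed K], FirstOrder K)
    (h : FibCat.IsFibGrpd (Mbar S g n).p) (B : (Mbar S g n).obj) [Smooth B.obj.base.hom]
    (hx : AlgSt.RepByAlgSpWith (AlgSp.LocP @Smooth) (K735.Fp.yonF h B rfl)) (W : B.obj.base.left.Opens)
    (w₀ : B.obj.base.left) (hw₀ : w₀ ∈ W) : ∃ w ∈ W, ∀ c : B.obj.C, B.obj.f c = w → SmoothAt B.obj.f c := by
  by_contra hcon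
  push Not at hcon
  have hst : IsStableFam B.obj.f B.obj.sect B.obj.sect_f g := B.property
  have i1 : Flat B.obj.f := hst.1
  have i2 : IsProper B.obj.f := hst.2.1
  have i3 : LocallyOfFinitePresentation B.obj.f := hst.2.2.1
  obtain ⟨K, _, _, τ, hτ⟩ := K898.StabFam.exists_geometric_point B.obj.base.left w₀
  obtain ⟨R₁, _, _, _, res, hker, hdef⟩ := H K
  -- the open `W`, base changed to `K`
  have hτW : Set.range τ ⊆ Set.range W.ι := by
    rintro _ ⟨s, rfl⟩
    rw [Scheme.Opens.range_ι, Subsingleton.elim s (closedPoint K), hτ]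
    exact hw₀
  let τ' : Spec (CommRingCat.of K) ⟶ W := IsOpenImmersion.lift W.ι τ hτW
  have hτ' : τ' ≫ W.ι = τ := IsOpenImmersion.lift_fac _ _ _
  let t : Spec (CommRingCat.of K) ⟶ S := τ ≫ B.obj.base.hom
  let WK := pullback (W.ι ≫ B.obj.base.hom) t
  let p : WK ⟶ Spec (CommRingCat.of K) := pullback.snd _ _
  let a : WK ⟶ B.obj.base.left := pullback.fst (W.ι ≫ B.obj.base.hom) t ≫ W.ι
  have hpS : Smooth p := inferInstanceAs (Smooth (pullback.snd _ _))
  have hne : Nonempty WK := ⟨pullback.lift τ' (𝟙 _) (by rw [← Category.assoc, hτ', Category.id_comp]) (closedPoint K)⟩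
  have hpt : a ≫ B.obj.base.hom = p ≫ t := by
    rw [Category.assoc]
    exact pullback.condition
  -- the family over `WK`
  let fK : pullback B.obj.f a ⟶ WK := pullback.snd _ _
  let sK : Fin n → (WK ⟶ pullback B.obj.f a) := fun i => pullback.lift (a ≫ B.obj.sect i) (𝟙 _)
    (by rw [Category.assoc, B.obj.sect_f, Category.comp_id, Category.id_comp])
  have hsK : ∀ i, sK i ≫ fK = 𝟙 _ := fun i => pullback.lift_snd _ _ _
  have hsK' : ∀ i, sK i ≫ pullback.fst B.obj.f a = a ≫ B.obj.sect i := fun i => pullback.lift_fst _ _ _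
  have hPK := IsPullback.of_hasPullback B.obj.f a
  have hstK : IsStableFam fK sK hsK g := isStableFam_of_isPullback hsK hst hPK hsK'
  have hnK : Curv2.IsNodalFamily fK := K898.StabFam.isNodalFamily fK (K898.StabFam.geoGenus_of_isStableFam hstK)
  have hsing : ∀ w : WK, ∃ x, fK x = w ∧ ¬ SmoothAt fK x := by
    intro w
    have haw : a w ∈ W := by
      change (pullback.fst (W.ι ≫ B.obj.base.hom) t ≫ W.ι) w ∈ W
      rw [Scheme.Hom.comp_apply]
      exact (pullback.fst (W.ι ≫ B.obj.base.hom) t w).2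
    obtain ⟨c, hc, hcs⟩ := hcon (a w) haw
    obtain ⟨x, hx1, hx2⟩ := Scheme.exists_preimage_of_isPullback hPK c w hc
    refine ⟨x, hx2, ?_⟩
    rw [locusProp_smooth.baseChange B.obj.f fK _ a hPK x, hx1]
    exact hcs
  obtain ⟨d, hd1, hd2, hd3⟩ := exists_pt p fK hnK hsing
  -- the deformation of the fibre through `d`
  let g₀ : Spec (CommRingCat.of K) ⟶ B.obj.base.left := (d ≫ fK) ≫ a
  have hg₀ : g₀ ≫ B.obj.base.hom = t := by
    calc g₀ ≫ B.obj.base.hom = (d ≫ fK) ≫ a ≫ B.obj.base.hom := by rw [← Category.assoc]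
      _ = (d ≫ fK ≫ p) ≫ t := by rw [hpt]; simp only [Category.assoc]
      _ = t := by rw [hd1, Category.id_comp]
  let ρ : Spec (CommRingCat.of K) ⟶ Spec (CommRingCat.of R₁) := Spec.map (CommRingCat.ofHom res.toRingHom)
  let κ : Spec (CommRingCat.of R₁) ⟶ Spec (CommRingCat.of K) := Spec.map (CommRingCat.ofHom (algebraMap K R₁))
  have hρκ : ρ ≫ κ = 𝟙 _ := by
    rw [← Spec.map_comp, ← Spec.map_id]
    congr 1
    ext c
    exact res.commutes c
  have hsurj : Function.Surjective res := fun c => ⟨algebraMap K R₁ c, res.commutes c⟩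
  have hρ : MoreMor.IsFirstOrderThickening ρ := isFirstOrderThickening_map _ hsurj hker
  let σ₀ : Fin n → (Spec (CommRingCat.of K) ⟶ pullback B.obj.f g₀) := fun i => pullback.lift (g₀ ≫ B.obj.sect i) (𝟙 _)
    (by rw [Category.assoc, B.obj.sect_f, Category.comp_id, Category.id_comp])
  have hσ₀ : ∀ i, σ₀ i ≫ pullback.snd B.obj.f g₀ = 𝟙 _ := fun i => pullback.lift_snd _ _ _
  have hσ₀' : ∀ i, σ₀ i ≫ pullback.fst B.obj.f g₀ = g₀ ≫ B.obj.sect i := fun i => pullback.lift_fst _ _ _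
  have hst₀ : IsStableFam (pullback.snd B.obj.f g₀) σ₀ hσ₀ g :=
    isStableFam_of_isPullback hσ₀ hst (IsPullback.of_hasPullback B.obj.f g₀) hσ₀'
  obtain ⟨X, f, τ₁, hτ₁, j, hX, sq, hj, hNS⟩ := hdef g n (pullback.snd B.obj.f g₀) σ₀ hσ₀ hst₀
  let F₀ : PtFamObj S n := ⟨Over.mk (ρ ≫ κ ≫ t), pullback B.obj.f g₀, pullback.snd B.obj.f g₀, σ₀, hσ₀⟩
  let F : PtFamObj S n := ⟨Over.mk (κ ≫ t), X, f, τ₁, hτ₁⟩
  let A₀ : (Mbar S g n).obj := ⟨F₀, hst₀⟩
  let A' : (Mbar S g n).obj := ⟨F, hX⟩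
  let φ₁ : F₀ ⟶ B.obj := ⟨Over.homMk g₀ (by
    change g₀ ≫ B.obj.base.hom = ρ ≫ κ ≫ t
    rw [hg₀, ← Category.assoc, hρκ, Category.id_comp]), pullback.fst B.obj.f g₀, IsPullback.of_hasPullback _ _,
    hσ₀'⟩
  let ψ₁ : F₀ ⟶ F := ⟨Over.homMk ρ rfl, j, sq, hj⟩
  let φ : A₀ ⟶ B := ObjectProperty.homMk φ₁
  let ψ : A₀ ⟶ A' := ObjectProperty.homMk ψ₁
  have haff : IsAffine ((Mbar S g n).p.obj A').left := by
    change IsAffine (Spec (CommRingCat.of R₁))
    infer_instance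
  obtain ⟨θ, hθ⟩ := exists_hom_of_smooth h B hx φ ψ hρ
  let G : Spec (CommRingCat.of R₁) ⟶ B.obj.base.left := θ.hom.base.left
  have hG : ρ ≫ G = g₀ := congrArg CommaMorphism.left hθ
  have hGb : G ≫ B.obj.base.hom = κ ≫ t := Over.w θ.hom.base
  -- the tangent vector of `WK`
  have hρs : Function.Surjective ρ := hρ.1.2.surj
  have hGW : Set.range G ⊆ Set.range W.ι := by
    rintro _ ⟨s, rfl⟩
    obtain ⟨s₀, rfl⟩ := hρs s
    rw [← Scheme.Hom.comp_apply, hG, Scheme.Opens.range_ι]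
    change ((d ≫ fK) ≫ pullback.fst (W.ι ≫ B.obj.base.hom) t ≫ W.ι) s₀ ∈ W
    rw [Scheme.Hom.comp_apply, Scheme.Hom.comp_apply]
    exact (pullback.fst (W.ι ≫ B.obj.base.hom) t ((d ≫ fK) s₀)).2
  let G' : Spec (CommRingCat.of R₁) ⟶ W := IsOpenImmersion.lift W.ι G hGW
  have hG' : G' ≫ W.ι = G := IsOpenImmersion.lift_fac _ _ _
  let b : Spec (CommRingCat.of R₁) ⟶ WK := pullback.lift G' κ (by rw [← Category.assoc, hG', hGb])
  have hb1 : b ≫ a = G := by
    rw [← hG']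
    change b ≫ pullback.fst (W.ι ≫ B.obj.base.hom) t ≫ W.ι = _
    rw [← Category.assoc, pullback.lift_fst]
  have hb2 : b ≫ p = κ := pullback.lift_snd _ _ _
  have hρb : ρ ≫ b = 𝟙 _ ≫ d ≫ fK := by
    rw [Category.id_comp]
    apply pullback.hom_ext
    · rw [← cancel_mono W.ι]
      calc ((ρ ≫ b) ≫ pullback.fst (W.ι ≫ B.obj.base.hom) t) ≫ W.ι = ρ ≫ b ≫ a := by simp only [Category.assoc, a]
        _ = g₀ := by rw [hb1, hG]
        _ = _ := by simp only [Category.assoc, g₀, a]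
    · calc (ρ ≫ b) ≫ p = ρ ≫ κ := by rw [Category.assoc, hb2]
        _ = d ≫ fK ≫ p := by rw [hρκ, hd1]
        _ = _ := by rw [Category.assoc]
  obtain ⟨l, hl1, hl2⟩ := hd3 ρ hρ (𝟙 _) b hρb
  -- the section of the deformation
  let s : Spec (CommRingCat.of R₁) ⟶ X := θ.hom.cart.lift (l ≫ pullback.fst B.obj.f a) (𝟙 _) (by
    change (l ≫ pullback.fst B.obj.f a) ≫ B.obj.f = 𝟙 _ ≫ G
    rw [Category.assoc, pullback.condition, ← Category.assoc, hl2, hb1, Category.id_comp])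
  have hs1 : s ≫ θ.hom.top = l ≫ pullback.fst B.obj.f a := θ.hom.cart.lift_fst _ _ _
  have hs2 : s ≫ f = 𝟙 _ := θ.hom.cart.lift_snd _ _ _
  have h1 : SmoothAt f (s (closedPoint R₁)) := hNS s hs2
  have h2 : SmoothAt B.obj.f (θ.hom.top (s (closedPoint R₁))) :=
    (locusProp_smooth.baseChange B.obj.f f θ.hom.top G θ.hom.cart _).1 h1
  rw [← Scheme.Hom.comp_apply, hs1] at h2
  have h3 : closedPoint R₁ = ρ (closedPoint K) := by
    have : IsLocalHom (CommRingCat.ofHom res.toRingHom).hom :=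
      IsLocalHom.of_surjective _ hsurj
    exact (comap_closedPoint (CommRingCat.ofHom res.toRingHom).hom).symm
  rw [h3, ← Scheme.Hom.comp_apply, ← Category.assoc, hl1, Category.id_comp, Scheme.Hom.comp_apply] at h2
  exact hd2 ((locusProp_smooth.baseChange B.obj.f fK _ a hPK _).2 h2)

end K744.Dens
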