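import Groth.Agent.CurvSt.K744.DensStk
import Groth.Agent.CurvSt.K744.DensFirst
import Groth.Agent.CurvSt.K310.ExistsCurve
import Groth.Agent.S6826
import Groth.Agent.S16733

/-!
# Density of the smooth curves: the rows

Everything is unconditional except that `Mbar S g n` is an algebraic stack, locally of finite presentation over `S`
(`K316.MbarAlg.isAlgStack_mbar`, `K896.MbarFinal.locQ_lfp_mbar`), which are hypotheses here.
-/

set_option autoImplicit false
set_option backward.isDefEq.respectTransparency false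
set_option backward.isDefEq.respectTransparency.types false

universe u

open CategoryTheory CategoryTheory.Limits AlgebraicGeometry Opposite IsLocalRing CurvSt

namespace K744.Dens

variable {S : Scheme.{u}} {n g : ℕ}

/-- **The smooth curves are dense in the stack of stable curves**, over any base. -/
theorem dense_of_isAlgStack {K : Precoverage Scheme.{u}} (hM : AlgSt.IsAlgStack K (Mbar S g n))
    (hlfp : AlgSt.LocQ (AlgSp.LocP @LocallyOfFinitePresentation) (FibCat.toSelf (Mbar S g n)))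
    (Q : (Mbar S g n).obj → Prop) (hQ : ∀ A : (Mbar S g n).obj, Smooth A.obj.f → Q A) :
    Dense (Set.range (AlgSt.Points.map (AlgSt.subIncl (Mbar S g n) Q))) :=
  dense_smooth (fun K _ _ => firstOrder K) (fun I _ _ h => Groth.Agent.S6826.result I h)
    (fun {_ _} f _ _ _ hdim s => Groth.Agent.S16733.result f hdim s) hM hlfp Q hQ

/-- On the stack of stable curves, the smooth pointed families are those with smooth structure morphism. -/
theorem sm_eq : K508.SmLocus.Sm S g n = fun A => Smooth A.obj.f := by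
  funext A
  exact propext (K508.SmLocus.isSmoothPtdFam_iff A.property)

/-- The row over a base scheme, without marked points. -/
theorem main_fppf (hg : 3 ≤ 2 * g + n) (hM : AlgSt.IsAlgStack Scheme.fppfPrecoverage (Mbar S g n))
    (hlfp : AlgSt.LocQ (AlgSp.LocP @LocallyOfFinitePresentation) (FibCat.toSelf (Mbar S g n))) :
    AlgSt.IsOpenSubstack (CurvSt.Mbar S g n) (fun A => Smooth A.obj.f) Scheme.fppfPrecoverage ∧
      Dense (Set.range (AlgSt.Points.map (AlgSt.subIncl (CurvSt.Mbar S g n) (fun A => Smooth A.obj.f)))) ∧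
      ∀ (Ω : Type u) [Field Ω] [IsAlgClosed Ω] (t : Spec (CommRingCat.of Ω) ⟶ S),
        Nonempty ((AlgSt.fullSub (CurvSt.Mbar S g n) (fun A => Smooth A.obj.f)).p.Fiber (Over.mk t)) := by
  refine ⟨?_, dense_of_isAlgStack hM hlfp _ fun A h => h, fun Ω _ _ t => ?_⟩
  · rw [← sm_eq]
    exact K901.OpenSub.isOpenSubstack_fppf hM (K508.SmLocus.openLocus S g n)
  · obtain ⟨X, q, σ, hσ, h1, h2⟩ := K310.ExistsCurve.exists_isStableFam Ω g n hg
    exact ⟨⟨⟨⟨⟨Over.mk t, X, q, σ, hσ⟩, h2⟩, h1.1.1⟩, rfl⟩⟩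

/-- The row with marked points, for the etale topology. -/
theorem main_etale (hg : 3 ≤ 2 * g + n) (hM : AlgSt.IsAlgStack Scheme.etalePrecoverage (Mbar S g n))
    (hlfp : AlgSt.LocQ (AlgSp.LocP @LocallyOfFinitePresentation) (FibCat.toSelf (Mbar S g n))) :
    AlgSt.IsAlgStack Scheme.etalePrecoverage (CurvSt.Mbar S g n) ∧
      AlgSt.IsOpenSubstack (CurvSt.Mbar S g n)
        (fun A => CurvSt.IsSmoothPtdFam A.obj.f A.obj.sect g) Scheme.etalePrecoverage ∧
      Dense (Set.range (AlgSt.Points.map (AlgSt.subIncl (CurvSt.Mbar S g n)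
        (fun A => CurvSt.IsSmoothPtdFam A.obj.f A.obj.sect g)))) ∧
      ∀ (Ω : Type u) [Field Ω] [IsAlgClosed Ω] (t : Spec (CommRingCat.of Ω) ⟶ S),
        Nonempty ((AlgSt.fullSub (CurvSt.Mbar S g n)
          (fun A => CurvSt.IsSmoothPtdFam A.obj.f A.obj.sect g)).p.Fiber (Over.mk t)) := by
  refine ⟨hM, K901.OpenSub.isOpenSubstack_etale hM (K508.SmLocus.openLocus S g n),
    dense_of_isAlgStack hM hlfp _ fun A h => (K508.SmLocus.isSmoothPtdFam_iff A.property).2 h, fun Ω _ _ t => ?_⟩
  obtain ⟨X, q, σ, hσ, h1, h2⟩ := K310.ExistsCurve.exists_isStableFam Ω g n hg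
  exact ⟨⟨⟨⟨⟨Over.mk t, X, q, σ, hσ⟩, h2⟩, h1⟩, rfl⟩⟩

end K744.Dens
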