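import Groth.Agent.CurvSt.K744.DensMain
import Groth.Agent.CurvSt.K896.MbarSmooth
import Groth.Agent.CurvSt.K508.SmLocus

/-!
# The smooth stable curves are dense in the stack of stable curves
-/

set_option autoImplicit false
set_option backward.isDefEq.respectTransparency false
set_option backward.isDefEq.respectTransparency.types false

universe u

open CategoryTheory CategoryTheory.Limits AlgebraicGeometry Opposite IsLocalRing CurvSt

namespace K744.Dens

open K735.Fib K735.Fp

variable {S : Scheme.{u}} {n g : ℕ}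

/-- Density, for a smooth chart given by an object. -/
theorem dense_of_obj (H : ∀ (K : Type u) [Field K] [IsAlgClosed K], FirstOrder K)
    (h : FibCat.IsFibGrpd (Mbar S g n).p) {U : Over S} (B : (Mbar S g n).obj) (hB : (Mbar S g n).p.obj B = U)
    [Smooth U.hom] (hx : AlgSt.RepByAlgSpWith (AlgSp.LocP @Smooth) (yonF h B hB))
    (hc : Continuous (AlgSt.Points.ofChart (yonF h B hB)))
    (hs : Function.Surjective (AlgSt.Points.ofChart (yonF h B hB)))
    (Q : (Mbar S g n).obj → Prop) (hQ : ∀ A : (Mbar S g n).obj, Smooth A.obj.f → Q A) :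
    Dense (Set.range (AlgSt.Points.map (AlgSt.subIncl (Mbar S g n) Q))) := by
  subst hB
  rw [dense_iff_inter_open]
  rintro O hO ⟨p, hp⟩
  obtain ⟨w₀, rfl⟩ := hs p
  let W : B.obj.base.left.Opens := ⟨AlgSt.Points.ofChart (yonF h B rfl) ⁻¹' O, hO.preimage hc⟩
  have : Smooth B.obj.base.hom := ‹_›
  obtain ⟨w, hw, hws⟩ := exists_smooth_point H h B hx W w₀ hp
  obtain ⟨q, φ, hq1, hq2⟩ := K896.StPts.famPt_eq_mk h B w
  have hst : IsStableFam B.obj.f B.obj.sect B.obj.sect_f g := B.property
  have i1 : Flat B.obj.f := hst.1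
  have i2 : IsProper B.obj.f := hst.2.1
  have i3 : LocallyOfFinitePresentation B.obj.f := hst.2.2.1
  have hwb : w ∈ K508.SmLocus.smBase B.obj.f := K508.SmLocus.mem_smBase.2 fun c hc =>
    (K903.NonsmoothFin.mem_smoothLocus_iff_exists _ _).2 (hws c hc)
  have hsm : Smooth q.obj.obj.f := by
    rw [K508.SmLocus.smooth_iff_range_subset φ.hom.cart]
    rintro _ ⟨s, rfl⟩
    have hs : s = ((eqToHom q.lies.symm).left) (closedPoint q.K) := by
      have : Subsingleton q.obj.obj.base.left := by
        have h1 : q.obj.obj.base = Over.mk q.str := q.lies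
        rw [h1]
        exact inferInstanceAs (Subsingleton (PrimeSpectrum q.K))
      exact Subsingleton.elim _ _
    have h2 : ((Mbar S g n).p.map φ).left s = w := by
      rw [hs, ← hq2, Over.comp_left, Scheme.Hom.comp_apply]
    change ((Mbar S g n).p.map φ).left s ∈ _
    rw [h2]
    exact hwb
  refine ⟨AlgSt.Points.ofChart (yonF h B rfl) w, hw, ?_⟩
  refine ⟨AlgSt.Points.mk (⟨q.K, q.str, ⟨q.obj, hQ _ hsm⟩, q.lies⟩ : AlgSt.FPt (AlgSt.fullSub (Mbar S g n) Q)), ?_⟩
  exact hq1.symm

/-- **The smooth curves are dense in the stack of stable curves**, over any base. -/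
theorem dense_smooth (H : ∀ (K : Type u) [Field K] [IsAlgClosed K], FirstOrder K) (hSyn : K902.CurveLift.SynLift.{u})
    (HP : K896.MbarSmooth.ProjLoc.{u}) {K : Precoverage Scheme.{u}} (hM : AlgSt.IsAlgStack K (Mbar S g n))
    (hlfp : AlgSt.LocQ (AlgSp.LocP @LocallyOfFinitePresentation) (FibCat.toSelf (Mbar S g n)))
    (Q : (Mbar S g n).obj → Prop) (hQ : ∀ A : (Mbar S g n).obj, Smooth A.obj.f → Q A) :
    Dense (Set.range (AlgSt.Points.map (AlgSt.subIncl (Mbar S g n) Q))) := by
  have h : FibCat.IsFibGrpd (Mbar S g n).p := hM.isStack.1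
  obtain ⟨U, x, hx, hxs, hU⟩ := K902.SelfChart.exists_atlas_lfp hlfp
  have hsm : Smooth U.hom := K896.MbarSmooth.smooth_of_chart hSyn HP x hx
  have hB : (Mbar S g n).p.obj (x.obj (idObj U)) = U := x.w_obj _
  obtain ⟨i, -⟩ := exists_yonIso h x (yonF h (x.obj (idObj U)) hB) (yonFIso h _ hB).inv
    (vert_yonFIso h _ hB).iso_inv
  have hxs' := K735.Rep.repByAlgSpWith_of_iso AlgSp.IsSurjectiveMor i hxs
  exact dense_of_obj H h (x.obj (idObj U)) hB (K735.Rep.repByAlgSpWith_of_iso _ i hx)
    (K736.QC.continuous_ofChart hM _) (K736.QC.surjective_ofChart hM hxs') Q hQ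

end K744.Dens
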